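import Groth.Agent.FlatStratLib.Proj

/-!
# Direct images along a morphism split by a clopen covering of sections
-/

set_option autoImplicit false
set_option backward.isDefEq.respectTransparency false
set_option backward.isDefEq.respectTransparency.types false
set_option linter.style.haveILetI false

universe u

open CategoryTheory CategoryTheory.Limits AlgebraicGeometry TopologicalSpace Opposite

noncomputable section

namespace Groth.Agent.TransSplitLib

variable {P X : Scheme.{u}}

theorem isIso_pullback_unit {U : Scheme.{u}} (j : U ⟶ P) [IsOpenImmersion j] (M : P.Modules) :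
    IsIso ((Scheme.Modules.pullback j).map ((Scheme.Modules.pullbackPushforwardAdjunction j).unit.app M)) := by
  haveI : IsIso (Scheme.Modules.pullbackPushforwardAdjunction j).counit :=
    (Scheme.Modules.pullbackPushforwardAdjunction j).counit_isIso_of_R_fully_faithful
  exact IsIso.of_isIso_fac_right ((Scheme.Modules.pullbackPushforwardAdjunction j).left_triangle_components M)

theorem isZero_pullback_push_of_disjoint {U V : Scheme.{u}} (j : U ⟶ P) [IsOpenImmersion j] (i : V ⟶ P)
    (h : Disjoint (Set.range j) (Set.range i)) (N : V.Modules) :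
    IsZero ((Scheme.Modules.pullback j).obj ((Scheme.Modules.pushforward i).obj N)) := by
  refine IsZero.of_iso ?_ ((Scheme.Modules.restrictFunctorIsoPullback j).app _).symm
  refine (IsZero.iff_id_eq_zero _).2 (Scheme.Modules.hom_ext _ _ fun W => ?_)
  ext z
  have hb : i ⁻¹ᵁ (j ''ᵁ W) = ⊥ := by
    ext v
    simp only [Opens.coe_bot, Set.mem_empty_iff_false, iff_false]
    rintro ⟨u, -, hu⟩
    exact Set.disjoint_left.1 h ⟨u, hu⟩ ⟨v, rfl⟩
  haveI : Subsingleton Γ(N, i ⁻¹ᵁ (j ''ᵁ W)) := by
    rw [hb]
    exact ⟨fun a b => TopCat.Sheaf.eq_of_locally_eq' (⟨N.presheaf, N.isSheaf⟩ : TopCat.Sheaf Ab.{u} V.carrier)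
      (fun i : PEmpty.{u+1} => i.elim) ⊥ (fun i => i.elim) bot_le a b fun i => i.elim⟩
  exact Subsingleton.elim (α := Γ(N, i ⁻¹ᵁ (j ''ᵁ W))) _ _

/-- A direct image along a morphism with a disjoint covering by open sections. -/
theorem nonempty_iso_sigma {J : Type} [Finite J] (q : P ⟶ X) (s : J → (X ⟶ P))
    [∀ j, IsOpenImmersion (s j)] (hs : ∀ j, s j ≫ q = 𝟙 X)
    (hdis : ∀ i j, i ≠ j → Disjoint (Set.range (s i)) (Set.range (s j)))
    (hcov : ∀ p : P, ∃ j, p ∈ Set.range (s j)) (M : P.Modules) :
    Nonempty ((Scheme.Modules.pushforward q).obj M ≅ ∐ fun j => (Scheme.Modules.pullback (s j)).obj M) := by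
  classical
  haveI := Fintype.ofFinite J
  let G := fun j => (Scheme.Modules.pushforward (s j)).obj ((Scheme.Modules.pullback (s j)).obj M)
  let ν : M ⟶ ⨁ G := biproduct.lift fun j => (Scheme.Modules.pullbackPushforwardAdjunction (s j)).unit.app M
  haveI : IsIso ν := by
    refine FlatStrat.isIso_of_pullback_cover ν fun p => ?_
    obtain ⟨j, hj⟩ := hcov p
    refine ⟨(s j).opensRange, hj, ?_⟩
    set ι := (s j).opensRange.ι with hι
    haveI : ((Scheme.Modules.pullback ι)).IsLeftAdjoint :=
      (Scheme.Modules.pullbackPushforwardAdjunction ι).isLeftAdjoint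
    haveI : (Scheme.Modules.pullback (s j)).IsLeftAdjoint :=
      (Scheme.Modules.pullbackPushforwardAdjunction (s j)).isLeftAdjoint
    let F := Scheme.Modules.pullback (s j)
    haveI : F.IsLeftAdjoint := (Scheme.Modules.pullbackPushforwardAdjunction (s j)).isLeftAdjoint
    haveI : F.Additive := (Scheme.Modules.pullbackPushforwardAdjunction (s j)).left_adjoint_additive
    haveI : IsIso (F.map ν) := by
      have h1 : F.map (biproduct.π G j) ≫ F.map (biproduct.ι G j) = 𝟙 _ := by
        rw [← F.map_id, ← biproduct.total (f := G), F.map_sum, Finset.sum_eq_single j, F.map_comp]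
        · intro b _ hb
          rw [F.map_comp, (isZero_pullback_push_of_disjoint (s j) (s b) (hdis j b hb.symm) _).eq_of_tgt
            (F.map (biproduct.π G b)) 0, zero_comp]
        · exact fun h => (h (Finset.mem_univ _)).elim
      haveI : IsIso (F.map (biproduct.π G j)) := ⟨F.map (biproduct.ι G j), h1, by
        rw [← F.map_comp, biproduct.ι_π_self, F.map_id]⟩
      haveI : IsIso (F.map ν ≫ F.map (biproduct.π G j)) := by
        rw [← F.map_comp, biproduct.lift_π]
        exact isIso_pullback_unit (s j) M
      exact IsIso.of_isIso_comp_right _ (F.map (biproduct.π G j))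
    let θ : F ⋙ Scheme.Modules.pullback (s j).isoOpensRange.inv ≅ Scheme.Modules.pullback ι :=
      Scheme.Modules.pullbackComp (s j).isoOpensRange.inv (s j) ≪≫
        Scheme.Modules.pullbackCongr (Scheme.Hom.isoOpensRange_inv_comp (s j))
    exact (NatIso.isIso_map_iff θ ν).1 (show IsIso ((Scheme.Modules.pullback _).map (F.map ν)) from inferInstance)
  let Q := Scheme.Modules.pushforward q
  haveI : Q.IsRightAdjoint := (Scheme.Modules.pullbackPushforwardAdjunction q).isRightAdjoint
  haveI : Q.Additive := inferInstance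
  exact ⟨Q.mapIso (asIso ν) ≪≫ Q.mapBiproduct G ≪≫
    biproduct.mapIso (fun j => (Scheme.Modules.pushforwardComp (s j) q ≪≫
      Scheme.Modules.pushforwardCongr (hs j) ≪≫ Scheme.Modules.pushforwardId X).app _) ≪≫
    biproduct.isoCoproduct _⟩

end Groth.Agent.TransSplitLib
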